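import Groth.Agent.SepAction.Core
import Groth.Agent.GrpScheme.Component
import Groth.Agent.AbVarLib.Basics

/-! Orbit maps of points with values in fields; irreducibility of the base change of a group with connected fibres. -/

set_option autoImplicit false

universe u

open CategoryTheory MonoidalCategory CartesianMonoidalCategory MonObj GrpObj AlgebraicGeometry Limits

namespace Groth.Agent.SepAction

set_option backward.isDefEq.respectTransparency.types false

open GrpScheme GrpScheme.Points

variable {S : Scheme.{u}}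

/-- A group with connected fibres is irreducible over every field-valued point. -/
theorem irreducibleSpace_tensor {G T₀ : Over S} [GrpObj G]
    (hconn : ∀ s : S, _root_.IsConnected (G.hom.base ⁻¹' {s})) (L : Type u) [Field L]
    (e : T₀.left ≅ Spec (CommRingCat.of L)) : IrreducibleSpace (G ⊗ T₀).left := by
  obtain ⟨⟨s, φ⟩, hφ⟩ := (Scheme.SpecToEquivOfField L S).symm.surjective (e.inv ≫ T₀.hom)
  have hq : T₀.hom = (e.hom ≫ Spec.map φ) ≫ S.fromSpecResidueField s := by
    rw [Category.assoc, show Spec.map φ ≫ S.fromSpecResidueField s = e.inv ≫ T₀.hom from hφ,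
      Iso.hom_inv_id_assoc]
  let : GrpObj (Over.mk G.hom) := ‹GrpObj G›
  let Gs : Over (Spec (CommRingCat.of (S.residueField s))) :=
    Over.mk (pullback.snd G.hom (S.fromSpecResidueField s))
  let iGs : GrpObj Gs := Over.grpObjMkPullbackSnd
  have : ConnectedSpace Gs.left :=
    have := isConnected_iff_connectedSpace.1 (hconn s)
    (G.hom.fiberHomeo s).symm.surjective.connectedSpace (G.hom.fiberHomeo s).symm.continuous
  have := AbVarLib.Basics.irreducibleSpace_of_connectedSpace Gs
  have : GeometricallyIrreducible (pullback.snd G.hom (S.fromSpecResidueField s)) :=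
    GrpScheme.Component.geometricallyIrreducible_of_irreducibleSpace Gs
  let ψ : T₀.left ⟶ Spec (S.residueField s) := e.hom ≫ Spec.map φ
  have : Subsingleton T₀.left := by
    have : Subsingleton (Spec (CommRingCat.of L)) := inferInstanceAs (Subsingleton (PrimeSpectrum L))
    exact e.hom.homeomorph.injective.subsingleton
  have : Nonempty T₀.left := ⟨e.inv default⟩
  have hirr : IrreducibleSpace ↥(pullback (pullback.snd G.hom (S.fromSpecResidueField s)) ψ) :=
    have : UniversallyOpen (pullback.snd G.hom (S.fromSpecResidueField s)) := inferInstance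
    have : IrreducibleSpace T₀.left :=
      { isPreirreducible_univ := Set.subsingleton_univ.isPreirreducible, toNonempty := inferInstance }
    inferInstance
  let i : pullback (pullback.snd G.hom (S.fromSpecResidueField s)) ψ ≅ (G ⊗ T₀).left :=
    pullbackLeftPullbackSndIso G.hom (S.fromSpecResidueField s) ψ ≪≫ pullback.congrHom rfl hq.symm
  exact i.hom.homeomorph.irreducibleSpace_iff.1 hirr

/-- The orbit map of a point. -/
noncomputable abbrev orbit {G X T₀ : Over S} [GrpObj G] (a : AlgGrp.Action G X) (x : T₀ ⟶ X) : G ⊗ T₀ ⟶ X :=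
  Basic.smul a (fst G T₀) (snd G T₀ ≫ x)

theorem comp_orbit {G X T₀ T : Over S} [GrpObj G] (a : AlgGrp.Action G X) (x : T₀ ⟶ X) (g : T ⟶ G) (π : T ⟶ T₀) :
    lift g π ≫ orbit a x = Basic.smul a g (π ≫ x) := by
  rw [orbit, Basic.comp_smul, lift_fst, lift_snd_assoc]

/-- The orbit map over the field is surjective for a transitive action. -/
theorem exists_orbit_pair_eq {G X T₀ : Over S} [GrpObj G] (a : AlgGrp.Action G X)
    (hΦ : Surjective (lift a.act (snd G X)).left) (x : T₀ ⟶ X) (w : (X ⊗ T₀).left) :
    ∃ p : (G ⊗ T₀).left, (lift (orbit a x) (snd G T₀)).left p = w := by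
  let c : X ⊗ T₀ ⟶ X ⊗ X := lift (fst X T₀) (snd X T₀ ≫ x)
  obtain ⟨q, hq⟩ := hΦ.surj (c.left w)
  obtain ⟨z, hz1, hz2⟩ := Scheme.Pullback.exists_preimage_pullback (f := (lift a.act (snd G X)).left) (g := c.left) q w hq
  let T : Over S := Over.mk (pullback.snd (lift a.act (snd G X)).left c.left ≫ (X ⊗ T₀).hom)
  let m₂ : T ⟶ X ⊗ T₀ := Over.homMk (pullback.snd _ _) rfl
  let m₁ : T ⟶ G ⊗ X := Over.homMk (pullback.fst _ _) (by
    change pullback.fst _ _ ≫ (G ⊗ X).hom = pullback.snd _ _ ≫ (X ⊗ T₀).hom
    rw [← Over.w (lift a.act (snd G X)), pullback.condition_assoc, Over.w c])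
  have hm : m₁ ≫ lift a.act (snd G X) = m₂ ≫ c := Over.OverMorphism.ext pullback.condition
  let zT : T.left := z
  refine ⟨(lift (m₁ ≫ fst G X) (m₂ ≫ snd X T₀)).left zT, ?_⟩
  have h1 := congrArg (· ≫ fst X X) hm
  have h2 := congrArg (· ≫ snd X X) hm
  simp only [Category.assoc, lift_fst, lift_snd, c] at h1 h2
  have : lift (m₁ ≫ fst G X) (m₂ ≫ snd X T₀) ≫ lift (orbit a x) (snd G T₀) = m₂ := by
    apply CartesianMonoidalCategory.hom_ext
    · rw [Category.assoc, lift_fst, comp_orbit, Category.assoc, ← h2, ← h1, Basic.smul, ← comp_lift,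
        lift_fst_snd, Category.comp_id]
    · rw [Category.assoc, lift_snd, lift_snd]
  rw [← Points.comp_apply, this]
  exact hz2

/-- In a transitive action every point of the fibre is in the orbit. -/
theorem exists_orbit_eq {G X T₀ : Over S} [GrpObj G] (a : AlgGrp.Action G X)
    (hΦ : Surjective (lift a.act (snd G X)).left) (x : T₀ ⟶ X) (v : X.left) (t₀ : T₀.left)
    (hv : X.hom v = T₀.hom t₀) : ∃ p : (G ⊗ T₀).left, (orbit a x).left p = v ∧ (snd G T₀).left p = t₀ := by
  obtain ⟨w, hw1, hw2⟩ := Scheme.Pullback.exists_preimage_pullback (f := X.hom) (g := T₀.hom) v t₀ hv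
  obtain ⟨p, hp⟩ := exists_orbit_pair_eq a hΦ x w
  refine ⟨p, ?_, ?_⟩
  · rw [← lift_fst (orbit a x) (snd G T₀), Points.comp_apply, hp]
    exact hw1
  · rw [← lift_snd (orbit a x) (snd G T₀), Points.comp_apply, hp]
    exact hw2

end Groth.Agent.SepAction
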