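import Groth.Agent.SepAction.Orbit
import Groth.Agent.GrpScheme.IdComponent
import Groth.Agent.FlatMor.GenericPts
import Groth.Agent.SchPoints.Basic
import Mathlib.AlgebraicGeometry.AlgClosed.Basic

/-! The orbit of a point under the identity component meets every fibrewise dense open. -/

set_option autoImplicit false

universe u

open CategoryTheory MonoidalCategory CartesianMonoidalCategory MonObj GrpObj AlgebraicGeometry Limits

namespace Groth.Agent.SepAction

set_option backward.isDefEq.respectTransparency.types false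

open GrpScheme GrpScheme.Points

variable {S : Scheme.{u}}

/-- The fibre of `X` over a field-valued point, as a base change of the fibre. -/
theorem exists_factor {X T₀ : Over S} (L : Type u) [Field L] (e : T₀.left ≅ Spec (CommRingCat.of L)) :
    ∃ (s : S) (ψ : T₀.left ⟶ Spec (S.residueField s))
      (i : pullback (X.hom.fiberToSpecResidueField s) ψ ≅ (X ⊗ T₀).left),
      i.hom ≫ (fst X T₀).left = pullback.fst _ _ ≫ X.hom.fiberι s ∧
        i.hom ≫ (snd X T₀).left = pullback.snd _ _ := by
  obtain ⟨⟨s, φ⟩, hφ⟩ := (Scheme.SpecToEquivOfField L S).symm.surjective (e.inv ≫ T₀.hom)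
  have hq : T₀.hom = (e.hom ≫ Spec.map φ) ≫ S.fromSpecResidueField s := by
    rw [Category.assoc, show Spec.map φ ≫ S.fromSpecResidueField s = e.inv ≫ T₀.hom from hφ,
      Iso.hom_inv_id_assoc]
  refine ⟨s, e.hom ≫ Spec.map φ,
    pullbackLeftPullbackSndIso X.hom (S.fromSpecResidueField s) _ ≪≫ pullback.congrHom rfl hq.symm, ?_, ?_⟩
  · change (_ ≫ _) ≫ pullback.fst X.hom T₀.hom = _
    rw [Category.assoc, pullback.congrHom_hom, pullback.map, pullback.lift_fst, Category.comp_id]
    exact pullbackLeftPullbackSndIso_hom_fst _ _ _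
  · change (_ ≫ _) ≫ pullback.snd X.hom T₀.hom = _
    rw [Category.assoc, pullback.congrHom_hom, pullback.map, pullback.lift_snd, Category.comp_id]
    exact pullbackLeftPullbackSndIso_hom_snd _ _ _

/-- The unit of the base change of `G` along a field-valued point. -/
noncomputable abbrev unitPt (G : Over S) [GrpObj G] (T : Over S) : T ⟶ G ⊗ T := lift 1 (𝟙 T)

/-- Connected components of a group over a field, locally of finite type, are irreducible. -/
theorem isPreirreducible_connectedComponent {G : Over S} [GrpObj G] [LocallyOfFiniteType G.hom]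
    (K : Type u) [Field K] (q₁ : Spec (CommRingCat.of K) ⟶ S) (x : (G ⊗ Over.mk q₁).left) :
    IsPreirreducible (connectedComponent x) := by
  let : GrpObj (Over.mk G.hom) := ‹GrpObj G›
  let H : Over (Spec (CommRingCat.of K)) := Over.mk (pullback.snd G.hom q₁)
  let iH : GrpObj H := Over.grpObjMkPullbackSnd
  let xH : H.left := x
  have : LocallyOfFiniteType H.hom :=
    MorphismProperty.pullback_snd (P := @LocallyOfFiniteType) G.hom q₁ inferInstance
  have hN : IsLocallyNoetherian H.left := LocallyOfFiniteType.isLocallyNoetherian H.hom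
  have hlf := SchPoints.locallyFinite_irreducibleComponents (T := H.left) fun z => by
    obtain ⟨V, hV, hzV, -⟩ := exists_isAffineOpen_mem_and_subset (X := H.left) (x := z) (U := ⊤) trivial
    exact ⟨V, V.isOpen.mem_nhds hzV,
      have : IsAffine V.toScheme := hV
      have : IsLocallyNoetherian V.toScheme := isLocallyNoetherian_of_isOpenImmersion V.ι
      have : AlgebraicGeometry.IsNoetherian V.toScheme := ⟨⟩
      (inferInstance : TopologicalSpace.NoetherianSpace V.toScheme)⟩
  let Z := irreducibleComponent xH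
  have hrest : IsClosed Zᶜ := by
    have e : Zᶜ = ⋃ W : {W : irreducibleComponents (H.left : Type u) // (W : Set H.left) ≠ Z}, (W.1 : Set H.left) := by
      ext z
      constructor
      · intro hz
        exact Set.mem_iUnion.2 ⟨⟨⟨irreducibleComponent z, irreducibleComponent_mem_irreducibleComponents z⟩,
          fun e => hz (e ▸ mem_irreducibleComponent)⟩, mem_irreducibleComponent⟩
      · rintro hz hzZ
        obtain ⟨⟨⟨W, hW⟩, hWne⟩, hzW⟩ := Set.mem_iUnion.1 hz
        obtain ⟨Z', -, hu⟩ := GrpScheme.Component.existsUnique_component H z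
        exact hWne ((hu W ⟨hW, hzW⟩).trans
          (hu Z ⟨irreducibleComponent_mem_irreducibleComponents xH, hzZ⟩).symm)
    rw [e]
    exact (hlf.comp_injective Subtype.val_injective).isClosed_iUnion fun W =>
      isClosed_of_mem_irreducibleComponents _ W.1.2
  have hclopen : IsClopen Z := ⟨isClosed_irreducibleComponent, isClosed_compl_iff.1 hrest⟩
  have heq : connectedComponent xH = Z :=
    Set.Subset.antisymm (hclopen.connectedComponent_subset mem_irreducibleComponent)
      (isIrreducible_irreducibleComponent.isConnected.2.subset_connectedComponent mem_irreducibleComponent)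
  exact heq ▸ isIrreducible_irreducibleComponent.2

theorem exists_component_orbit_maximal {G X : Over S} [GrpObj G] [LocallyOfFiniteType G.hom]
    (a : AlgGrp.Action G X) (hΦ : Surjective (lift a.act (snd G X)).left)
    (K : Type u) [Field K] [IsAlgClosed K] (q₁ : Spec (CommRingCat.of K) ⟶ S) (x : Over.mk q₁ ⟶ X) :
    ∃ p ∈ connectedComponent ((unitPt G (Over.mk q₁)).left (IsLocalRing.closedPoint K)),
      closure {(lift (orbit a x) (snd G (Over.mk q₁))).left p} ∈ irreducibleComponents (X ⊗ Over.mk q₁).left := by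
  let T : Over S := Over.mk q₁
  have hT : IsLocallyNoetherian T.left := inferInstanceAs (IsLocallyNoetherian (Spec (CommRingCat.of K)))
  obtain ⟨ηX, hη⟩ : ∃ ηX : (X ⊗ T).left, closure {ηX} ∈ irreducibleComponents (X ⊗ T).left := by
    let w : (X ⊗ T).left := (lift x (𝟙 T)).left (IsLocalRing.closedPoint K)
    obtain ⟨ηX, hη⟩ := QuasiSober.sober (isIrreducible_irreducibleComponent (x := w)) isClosed_irreducibleComponent
    exact ⟨ηX, hη.def.symm ▸ irreducibleComponent_mem_irreducibleComponents w⟩
  obtain ⟨p, hp⟩ := exists_orbit_pair_eq a hΦ x ηX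
  have hP : LocallyOfFiniteType (snd G T).left :=
    Basic.snd_left_mem @LocallyOfFiniteType ‹LocallyOfFiniteType G.hom›
  have hNP : IsLocallyNoetherian (G ⊗ T).left := LocallyOfFiniteType.isLocallyNoetherian (snd G T).left
  have : LocallyConnectedSpace (G ⊗ T).left := SchPoints.locallyConnectedSpace fun z => by
    obtain ⟨V, hV, hzV, -⟩ := exists_isAffineOpen_mem_and_subset (X := (G ⊗ T).left) (x := z) (U := ⊤) trivial
    exact ⟨V, V.isOpen.mem_nhds hzV,
      have : IsAffine V.toScheme := hV
      have : IsLocallyNoetherian V.toScheme := isLocallyNoetherian_of_isOpenImmersion V.ι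
      have : AlgebraicGeometry.IsNoetherian V.toScheme := ⟨⟩
      (inferInstance : TopologicalSpace.NoetherianSpace V.toScheme)⟩
  have : JacobsonSpace T.left := inferInstanceAs (JacobsonSpace (PrimeSpectrum K))
  have : JacobsonSpace (G ⊗ T).left := LocallyOfFiniteType.jacobsonSpace (snd G T).left
  obtain ⟨g₀, hg₀, hg₀c⟩ := nonempty_inter_closedPoints (Z := connectedComponent p) ⟨p, mem_connectedComponent⟩
    isOpen_connectedComponent.isLocallyClosed
  let gK := pointOfClosedPoint (snd G T).left g₀ hg₀c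
  let gP : T ⟶ G ⊗ T := Over.homMk gK (by
    change gK ≫ (G ⊗ T).hom = q₁
    rw [← Over.w (snd G T), pointOfClosedPoint_comp_assoc]
    rfl)
  have hgP : gP ≫ snd G T = 𝟙 T := Over.OverMorphism.ext (pointOfClosedPoint_comp _ _ _)
  let g : T ⟶ G := gP ≫ fst G T
  let τ : G ⊗ T ⟶ G ⊗ T := lift ((snd G T ≫ g)⁻¹ * fst G T) (snd G T)
  let σ : X ⊗ T ⟶ X ⊗ T := lift (Basic.smul a (snd X T ≫ g)⁻¹ (fst X T)) (snd X T)
  let σ' : X ⊗ T ⟶ X ⊗ T := lift (Basic.smul a (snd X T ≫ g) (fst X T)) (snd X T)
  have hσ : σ ≫ σ' = 𝟙 _ := by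
    apply CartesianMonoidalCategory.hom_ext
    · simp only [σ, σ', Category.assoc, lift_fst, Category.id_comp, Basic.comp_smul, lift_fst]
      rw [lift_snd_assoc, Basic.smul_inv_smul']
    · simp [σ, σ']
  have hσ' : σ' ≫ σ = 𝟙 _ := by
    apply CartesianMonoidalCategory.hom_ext
    · simp only [σ, σ', Category.assoc, lift_fst, Category.id_comp, Basic.comp_smul, GrpObj.comp_inv, lift_fst]
      rw [lift_snd_assoc, Basic.inv_smul_smul']
    · simp [σ, σ']
  have hισ : IsIso σ.left :=
    ⟨σ'.left, by rw [← Over.comp_left, hσ]; rfl, by rw [← Over.comp_left, hσ']; rfl⟩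
  have hmem : closure {σ.left ηX} ∈ irreducibleComponents (X ⊗ T).left := by
    have hh := σ.left.homeomorph.image_closure {ηX}
    rw [Set.image_singleton] at hh
    change closure {σ.left.homeomorph ηX} ∈ _
    rw [← hh]
    exact image_mem_irreducibleComponents_of_isPreirreducible_fiber σ.left.homeomorph σ.left.homeomorph.continuous
      σ.left.homeomorph.isOpenMap (fun _ => (Set.subsingleton_singleton.preimage σ.left.homeomorph.injective).isPreirreducible)
      σ.left.homeomorph.surjective hη
  refine ⟨τ.left p, ?_, ?_⟩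
  · have hg : τ.left g₀ = (unitPt G T).left (IsLocalRing.closedPoint K) := by
      have : gP ≫ τ = unitPt G T := by
        simp only [τ, unitPt, comp_lift, MonObj.comp_mul, GrpObj.comp_inv]
        rw [← Category.assoc, hgP, Category.id_comp, inv_mul_cancel]
      rw [← this, Points.comp_apply]
      exact congrArg τ.left (pointOfClosedPoint_apply _ _ _ _).symm
    rw [← hg]
    have hsub := τ.left.continuous.image_connectedComponent_subset g₀
    exact hsub ⟨p, by rw [← connectedComponent_eq hg₀]; exact mem_connectedComponent, rfl⟩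
  · have h : τ ≫ lift (orbit a x) (snd G T) = lift (orbit a x) (snd G T) ≫ σ := by
      apply CartesianMonoidalCategory.hom_ext
      · simp only [Category.assoc, τ, σ, comp_orbit, lift_fst, Basic.comp_smul, GrpObj.comp_inv, lift_snd_assoc]
        rw [Basic.mul_smul']
      · simp [τ, σ]
    rw [← Points.comp_apply, h, Points.comp_apply, hp]
    exact hmem

theorem exists_component_orbit_mem {G X : Over S} [GrpObj G] [LocallyOfFiniteType G.hom]
    (a : AlgGrp.Action G X) (hΦ : Surjective (lift a.act (snd G X)).left)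
    (hft : ∀ s : S, LocallyOfFiniteType (X.hom.fiberToSpecResidueField s))
    (K : Type u) [Field K] [IsAlgClosed K] (q₁ : Spec (CommRingCat.of K) ⟶ S)
    (x : Over.mk q₁ ⟶ X) (U : X.left.Opens)
    (hU : ∀ s : S, s ∈ Set.range q₁ → X.hom.base ⁻¹' {s} ⊆ closure ((U : Set X.left) ∩ X.hom.base ⁻¹' {s})) :
    ∃ p ∈ connectedComponent ((unitPt G (Over.mk q₁)).left (IsLocalRing.closedPoint K)),
      (orbit a x).left p ∈ U := by
  let T : Over S := Over.mk q₁
  obtain ⟨s, ψ, i, hi1, hi2⟩ := exists_factor (X := X) (T₀ := T) K (Iso.refl _)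
  have hs : s ∈ Set.range q₁ := by
    obtain ⟨w⟩ : Nonempty (X ⊗ T).left := ⟨(lift x (𝟙 T)).left (IsLocalRing.closedPoint K)⟩
    obtain ⟨v, rfl⟩ := i.hom.homeomorph.surjective w
    refine ⟨(pullback.snd (X.hom.fiberToSpecResidueField s) ψ) v, ?_⟩
    have h := congr($(Over.w (fst X T)) (i.hom v))
    have h' := congr($(Over.w (snd X T)) (i.hom v))
    rw [Scheme.Hom.comp_apply, ← Scheme.Hom.comp_apply i.hom, hi2] at h'
    rw [Scheme.Hom.comp_apply, ← Scheme.Hom.comp_apply i.hom, hi1, Scheme.Hom.comp_apply] at h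
    exact h'.trans (h.symm.trans ((Scheme.Hom.range_fiberι X.hom s).le ⟨_, rfl⟩))
  have hftX : LocallyOfFiniteType (snd X T).left := by
    have := hft s
    rw [← MorphismProperty.cancel_left_of_respectsIso @LocallyOfFiniteType i.hom, hi2]
    infer_instance
  have hT : IsLocallyNoetherian T.left := inferInstanceAs (IsLocallyNoetherian (Spec (CommRingCat.of K)))
  have hN : IsLocallyNoetherian (X ⊗ T).left := LocallyOfFiniteType.isLocallyNoetherian (snd X T).left
  have hUd : Dense (((fst X T).left ⁻¹ᵁ U : (X ⊗ T).left.Opens) : Set (X ⊗ T).left) := by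
    have h1 : Dense (((X.hom.fiberι s) ⁻¹ᵁ U : (X.hom.fiber s).Opens) : Set (X.hom.fiber s)) := by
      intro z
      rw [(X.hom.fiberι s).isEmbedding.isInducing.closure_eq_preimage_closure_image, Set.mem_preimage]
      refine closure_mono ?_ (hU s hs ((Scheme.Hom.range_fiberι X.hom s).le ⟨z, rfl⟩))
      rintro v ⟨hvU, hv⟩
      obtain ⟨z', rfl⟩ := (Scheme.Hom.range_fiberι X.hom s).ge hv
      exact ⟨z', hvU, rfl⟩
    have h2 := h1.preimage (pullback.fst (X.hom.fiberToSpecResidueField s) ψ).isOpenMap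
    intro w
    obtain ⟨v, rfl⟩ := i.hom.homeomorph.surjective w
    have := map_mem_closure i.hom.continuous (h2 v)
      (t := (((fst X T).left ⁻¹ᵁ U : (X ⊗ T).left.Opens) : Set (X ⊗ T).left)) (fun v' hv' => by
        show (fst X T).left (i.hom v') ∈ U
        rw [← Scheme.Hom.comp_apply, hi1, Scheme.Hom.comp_apply]
        exact hv')
    exact this
  obtain ⟨p, hp, hmax⟩ := exists_component_orbit_maximal a hΦ K q₁ x
  refine ⟨p, hp, ?_⟩
  have := FlatMor.GenericPts.mem_of_dense hUd hmax
  change (fst X T).left ((lift (orbit a x) (snd G T)).left p) ∈ U at this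
  rwa [← Points.comp_apply, lift_fst] at this

/-- A scheme with a transitive action of a group, universally open near the unit, is separated as soon as every
fibre is locally of finite type and has a dense open contained in a separated open of the scheme. -/
theorem isSeparated_of_dense {G X : Over S} [GrpObj G] [LocallyOfFiniteType G.hom]
    (a : AlgGrp.Action G X) (hΦ : Surjective (lift a.act (snd G X)).left) (W0 : G.left.Opens)
    [UniversallyOpen (W0.ι ≫ G.hom)] (hW0 : ∀ p : ↥(𝟙_ (Over S)).left, η[G].left p ∈ W0)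
    (hft : ∀ s : S, LocallyOfFiniteType (X.hom.fiberToSpecResidueField s))
    (hU : ∀ s : S, ∃ U : X.left.Opens, IsSeparated (U.ι ≫ X.hom) ∧
      X.hom.base ⁻¹' {s} ⊆ closure ((U : Set X.left) ∩ X.hom.base ⁻¹' {s})) :
    IsSeparated X.hom := by
  refine isSeparated_of_translate a W0 fun T₀ L _ e x y => ?_
  let K := AlgebraicClosure L
  let q₁ : Spec (CommRingCat.of K) ⟶ S :=
    Spec.map (CommRingCat.ofHom (algebraMap L K)) ≫ e.inv ≫ T₀.hom
  let T : Over S := Over.mk q₁
  let π : T ⟶ T₀ := Over.homMk (Spec.map (CommRingCat.ofHom (algebraMap L K)) ≫ e.inv) (Category.assoc _ _ _)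
  let c : T.left := IsLocalRing.closedPoint K
  obtain ⟨U, hUs, hUd⟩ := hU (q₁ c)
  have hsub : ∀ s, s ∈ Set.range q₁ → s = q₁ c := by
    rintro _ ⟨w, rfl⟩
    have : Subsingleton (Spec (CommRingCat.of K)) := inferInstanceAs (Subsingleton (PrimeSpectrum K))
    rw [Subsingleton.elim w (IsLocalRing.closedPoint K)]
  have hC : ∀ z : T ⟶ X, ∃ p ∈ connectedComponent ((unitPt G T).left c), (orbit a z).left p ∈ U :=
    fun z => exists_component_orbit_mem a hΦ hft K q₁ z U fun s hs => by rw [hsub s hs]; exact hUd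
  let C := connectedComponent ((unitPt G T).left c)
  have hirr : IsPreirreducible C := isPreirreducible_connectedComponent K q₁ _
  obtain ⟨p₁, hp₁, hp₁U⟩ := hC (π ≫ x)
  obtain ⟨p₂, hp₂, hp₂U⟩ := hC (π ≫ y)
  have hW : (unitPt G T).left c ∈ ((fst G T).left ⁻¹ᵁ W0 : (G ⊗ T).left.Opens) := by
    show (fst G T).left ((unitPt G T).left c) ∈ W0
    rw [← Points.comp_apply, lift_fst, Hom.one_def, Points.comp_apply]
    exact hW0 _
  obtain ⟨q', hq'C, hq'x, hq'y⟩ := hirr _ _ ((orbit a (π ≫ x)).left ⁻¹ᵁ U).isOpen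
    ((orbit a (π ≫ y)).left ⁻¹ᵁ U).isOpen ⟨p₁, hp₁, hp₁U⟩ ⟨p₂, hp₂, hp₂U⟩
  obtain ⟨q'', -, ⟨hqx, hqy⟩, hqW⟩ := hirr _ _
    (((orbit a (π ≫ x)).left ⁻¹ᵁ U).isOpen.inter ((orbit a (π ≫ y)).left ⁻¹ᵁ U).isOpen)
    ((fst G T).left ⁻¹ᵁ W0).isOpen ⟨q', hq'C, hq'x, hq'y⟩ ⟨_, mem_connectedComponent, hW⟩
  let q := pointHom (G ⊗ T) q''
  refine ⟨U, hUs, _, inferInstance, q ≫ snd G T ≫ π, q ≫ fst G T, fun t => ⟨?_, ?_, ?_⟩⟩
  · rw [Points.comp_apply, pointHom_apply]
    exact hqW
  · rw [show (q ≫ snd G T ≫ π) ≫ x = (q ≫ snd G T) ≫ π ≫ x by simp only [Category.assoc], ← comp_orbit,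
      ← comp_lift, lift_fst_snd, Category.comp_id, Points.comp_apply, pointHom_apply]
    exact hqx
  · rw [show (q ≫ snd G T ≫ π) ≫ y = (q ≫ snd G T) ≫ π ≫ y by simp only [Category.assoc], ← comp_orbit,
      ← comp_lift, lift_fst_snd, Category.comp_id, Points.comp_apply, pointHom_apply]
    exact hqy

end Groth.Agent.SepAction
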