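import Groth.Agent.SepAction.Dense

/-! In a transitive action with connected quasi-separated fibres every orbit of the identity component meets
every nonempty quasi-compact open of its fibre. -/

set_option autoImplicit false

universe u

open CategoryTheory MonoidalCategory CartesianMonoidalCategory MonObj GrpObj AlgebraicGeometry Limits

namespace Groth.Agent.SepAction

set_option backward.isDefEq.respectTransparency.types false

open GrpScheme GrpScheme.Points

variable {S : Scheme.{u}} (G : Over S) [GrpObj G] (s : S)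

/-- The residue field of the base at `s`, as an object over the base. -/
noncomputable abbrev ptS : Over S := Over.mk (S.fromSpecResidueField s)

/-- The fibre of `G`. -/
noncomputable abbrev fibGrp : Over (Spec (CommRingCat.of (S.residueField s))) :=
  (Over.pullback (S.fromSpecResidueField s)).obj G

noncomputable instance instGrpObjFibGrp : GrpObj (fibGrp G s) := Functor.grpObjObj

/-- The identity component of the fibre. -/
noncomputable abbrev compFib : Over (Spec (CommRingCat.of (S.residueField s))) := IdComponent.zObj (fibGrp G s)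

/-- The identity component of the fibre, as an object over the base. -/
noncomputable abbrev compOver : Over S :=
  Over.mk ((IdComponent.zι (fibGrp G s)).left ≫ (G ⊗ ptS s).hom)

/-- Its inclusion into the fibre. -/
noncomputable abbrev compι : compOver G s ⟶ G ⊗ ptS s :=
  Over.homMk (IdComponent.zι (fibGrp G s)).left rfl

theorem compι_snd : (compι G s ≫ snd G (ptS s)).left = (compFib G s).hom :=
  Over.w (IdComponent.zι (fibGrp G s))

/-- The identity component has a rational point over the unit. -/
theorem exists_unit : ∃ u : ptS s ⟶ compOver G s, u ≫ compι G s = unitPt G (ptS s) := by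
  let H := fibGrp G s
  let κ := S.residueField s
  let eH : Spec (CommRingCat.of κ) ⟶ H.left := η[H].left
  let c := IsLocalRing.closedPoint κ
  have h0 : η[H].left ≫ pullback.fst G.hom (S.fromSpecResidueField s) =
      ((Functor.LaxMonoidal.ε (Over.pullback (S.fromSpecResidueField s))).left ≫ pullback.fst _ _) ≫ η[G].left := by
    rw [Functor.obj.η_def, Over.comp_left, Category.assoc, Category.assoc]
    exact congrArg _ (pullback.lift_fst _ _ _)
  have h0' : (Functor.LaxMonoidal.ε (Over.pullback (S.fromSpecResidueField s))).left ≫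
      pullback.fst (𝟙_ (Over S)).hom (S.fromSpecResidueField s) = S.fromSpecResidueField s := by
    have h1 := Over.w (Functor.LaxMonoidal.ε (Over.pullback (S.fromSpecResidueField s)))
    have h2 : pullback.fst (𝟙_ (Over S)).hom (S.fromSpecResidueField s) =
        pullback.snd (𝟙_ (Over S)).hom (S.fromSpecResidueField s) ≫ S.fromSpecResidueField s := by
      rw [← pullback.condition]
      exact (Category.comp_id _).symm
    rw [h2, ← Category.assoc]
    exact (congrArg (· ≫ S.fromSpecResidueField s) h1).trans (Category.id_comp _)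
  obtain ⟨z, hz⟩ := IdComponent.e₀_mem H
  obtain ⟨w, -, hw⟩ := Scheme.Pullback.exists_preimage_pullback (f := (IdComponent.zι H).left) (g := η[H].left) z c hz
  let q := pullback.snd (IdComponent.zι H).left η[H].left
  have hsub : Subsingleton (Spec (CommRingCat.of κ)) := inferInstanceAs (Subsingleton (PrimeSpectrum κ))
  have hsurj : Surjective q := ⟨fun v => ⟨w, Subsingleton.elim (α := Spec (CommRingCat.of κ)) _ _⟩⟩
  have hiso : IsIso q :=
    have : IsReduced (𝟙_ (Over (Spec (CommRingCat.of κ)))).left := inferInstanceAs (IsReduced (Spec (CommRingCat.of κ)))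
    isIso_of_isClosedImmersion_of_surjective q
  let u : (ptS s).left ⟶ (compOver G s).left := inv q ≫ pullback.fst (IdComponent.zι H).left η[H].left
  have hu : u ≫ (IdComponent.zι H).left = η[H].left := by
    simp only [u, Category.assoc, pullback.condition]
    exact IsIso.inv_hom_id_assoc q _
  have hηs : η[H].left ≫ pullback.snd G.hom (S.fromSpecResidueField s) = 𝟙 _ := Over.w η[H]
  refine ⟨Over.homMk u ?_, ?_⟩
  · change u ≫ (IdComponent.zι H).left ≫ (G ⊗ ptS s).hom = S.fromSpecResidueField s
    rw [← Category.assoc, hu, ← Over.w (snd G (ptS s))]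
    exact (Category.assoc _ _ _).symm.trans ((congrArg (· ≫ S.fromSpecResidueField s) hηs).trans (Category.id_comp _))
  · apply CartesianMonoidalCategory.hom_ext
    · rw [lift_fst]
      apply Over.OverMorphism.ext
      change (u ≫ (IdComponent.zι H).left) ≫ pullback.fst G.hom (S.fromSpecResidueField s) = _
      rw [hu, h0, h0', Hom.one_def]
      rfl
    · rw [lift_snd]
      apply Over.OverMorphism.ext
      change (u ≫ (IdComponent.zι H).left) ≫ pullback.snd G.hom (S.fromSpecResidueField s) = _
      rw [hu, hηs]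
      rfl

variable {G s} {T : Over S} (t : T ⟶ ptS s)

/-- The base change of the identity component. -/
noncomputable abbrev compT : Over S :=
  Over.mk (pullback.snd (compFib G s).hom t.left ≫ T.hom)

/-- The projection to the identity component. -/
noncomputable def fstT : compT (G := G) t ⟶ compOver G s :=
  Over.homMk (pullback.fst (compFib G s).hom t.left) (by
    change pullback.fst (compFib G s).hom t.left ≫ (IdComponent.zι (fibGrp G s)).left ≫ (G ⊗ ptS s).hom =
      pullback.snd (compFib G s).hom t.left ≫ T.hom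
    rw [← Over.w t, ← Over.w (snd G (ptS s))]
    change pullback.fst _ _ ≫ (IdComponent.zι (fibGrp G s)).left ≫ (snd G (ptS s)).left ≫ (ptS s).hom = _
    rw [← pullback.condition_assoc, ← compι_snd G s]
    simp only [Over.comp_left, Category.assoc]
    rfl)

/-- The projection to the base. -/
noncomputable def sndT : compT (G := G) t ⟶ T := Over.homMk (pullback.snd (compFib G s).hom t.left) rfl

theorem fstT_snd : fstT (G := G) t ≫ compι G s ≫ snd G (ptS s) = sndT t ≫ t := by
  apply Over.OverMorphism.ext
  change pullback.fst (compFib G s).hom t.left ≫ (compι G s ≫ snd G (ptS s)).left =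
    pullback.snd (compFib G s).hom t.left ≫ t.left
  rw [compι_snd]
  exact pullback.condition

/-- Its map to the base change of the group. -/
noncomputable def compTι : compT (G := G) t ⟶ G ⊗ T :=
  lift (fstT t ≫ compι G s ≫ fst G (ptS s)) (sndT t)

theorem compTι_fst : compTι (G := G) t ≫ fst G T = fstT t ≫ compι G s ≫ fst G (ptS s) := lift_fst _ _

theorem compTι_snd : compTι (G := G) t ≫ snd G T = sndT t := lift_snd _ _

/-- A point of `G ⊗ T` over the identity component comes from its base change. -/
theorem exists_compT_lift {A : Over S} (α : A ⟶ compOver G s) (π : A ⟶ T)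
    (h : α ≫ compι G s ≫ snd G (ptS s) = π ≫ t) :
    ∃ v : A ⟶ compT (G := G) t, v ≫ fstT t = α ∧ v ≫ sndT t = π := by
  have h' : α.left ≫ (compFib G s).hom = π.left ≫ t.left := by
    rw [← compι_snd G s, ← Over.comp_left, h]
    rfl
  refine ⟨Over.homMk (pullback.lift α.left π.left h') ?_, ?_, ?_⟩
  · change pullback.lift α.left π.left h' ≫ pullback.snd _ _ ≫ T.hom = A.hom
    rw [pullback.lift_snd_assoc]
    exact Over.w π
  · exact Over.OverMorphism.ext (pullback.lift_fst _ _ _)
  · exact Over.OverMorphism.ext (pullback.lift_snd _ _ _)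

theorem irreducible_compT (L : Type u) [Field L] (e : T.left ≅ Spec (CommRingCat.of L)) :
    IrreducibleSpace (compT (G := G) t).left := by
  have : Subsingleton T.left := by
    have : Subsingleton (Spec (CommRingCat.of L)) := inferInstanceAs (Subsingleton (PrimeSpectrum L))
    exact e.hom.homeomorph.injective.subsingleton
  have : Nonempty T.left := ⟨e.inv default⟩
  have : IrreducibleSpace T.left :=
    { isPreirreducible_univ := Set.subsingleton_univ.isPreirreducible, toNonempty := inferInstance }
  have : UniversallyOpen (compFib G s).hom := inferInstance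
  show IrreducibleSpace ↥(pullback (compFib G s).hom t.left)
  infer_instance

theorem connectedComponent_subset_range_compTι [LocallyOfFiniteType G.hom] (t₀ : T.left) :
    connectedComponent ((unitPt G T).left t₀) ⊆ Set.range (compTι (G := G) t).left := by
  intro p hp
  let gt : G ⊗ T ⟶ G ⊗ ptS s := lift (fst G T) (snd G T ≫ t)
  have himg : gt.left p ∈ Set.range (compι G s).left := by
    obtain ⟨u, hu⟩ := exists_unit G s
    have hr : Set.range (compι G s).left = connectedComponent (IdComponent.e₀ (fibGrp G s)) := by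
      rw [IdComponent.connectedComponent_eq]
      exact IdComponent.range_zι (fibGrp G s)
    have hc : gt.left ((unitPt G T).left t₀) ∈ Set.range (compι G s).left := by
      refine ⟨u.left (t.left t₀), ?_⟩
      rw [← Points.comp_apply, hu, ← Points.comp_apply, ← Points.comp_apply]
      congr 2
      simp [gt, unitPt, comp_lift]
    rw [hr] at hc ⊢
    rw [connectedComponent_eq hc]
    exact gt.left.continuous.image_connectedComponent_subset _ ⟨p, hp, rfl⟩
  obtain ⟨A, hA, π, α, hα⟩ := Points.exists_lift (compι G s) (pointHom (G ⊗ T) p ≫ gt)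
    (fun _ => by rw [Points.comp_apply, pointHom_apply]; exact himg)
  obtain ⟨a₀⟩ := hA
  have hsnd : α ≫ compι G s ≫ snd G (ptS s) = (π ≫ pointHom (G ⊗ T) p ≫ snd G T) ≫ t := by
    rw [← Category.assoc, hα]
    simp [gt]
  obtain ⟨v, hv1, hv2⟩ := exists_compT_lift t α (π ≫ pointHom (G ⊗ T) p ≫ snd G T) hsnd
  have hv : v ≫ compTι t = lift (α ≫ compι G s ≫ fst G (ptS s)) (π ≫ pointHom (G ⊗ T) p ≫ snd G T) := by
    rw [compTι, comp_lift, reassoc_of% hv1, hv2]
  refine ⟨v.left a₀, ?_⟩
  have e : lift (α ≫ compι G s ≫ fst G (ptS s)) (π ≫ pointHom (G ⊗ T) p ≫ snd G T) = π ≫ pointHom (G ⊗ T) p := by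
    apply CartesianMonoidalCategory.hom_ext
    · rw [lift_fst, ← Category.assoc, hα]
      simp [gt]
    · simp
  rw [← Points.comp_apply, hv, e, Points.comp_apply]
  exact pointHom_apply _ _ _

section meets

variable {X : Over S} (a : AlgGrp.Action G X) (s : S)

/-- The identity component times the fibre of `X`. -/
noncomputable abbrev compX : Over S := compT (G := G) (snd X (ptS s))

/-- The projection to the fibre of `X`. -/
noncomputable abbrev prX : compX (G := G) (X := X) s ⟶ X ⊗ ptS s :=
  compTι (snd X (ptS s)) ≫ snd G (X ⊗ ptS s)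

/-- The action into the fibre of `X`. -/
noncomputable abbrev actX : compX (G := G) (X := X) s ⟶ X ⊗ ptS s :=
  lift (Basic.smul a (compTι (snd X (ptS s)) ≫ fst G (X ⊗ ptS s)) (prX s ≫ fst X (ptS s))) (prX s ≫ snd X (ptS s))

theorem prX_left : (prX (G := G) (X := X) s).left = pullback.snd (compFib G s).hom (snd X (ptS s)).left := by
  rw [prX, compTι_snd]
  rfl

/-- The points of the orbit of a `T`-point under the identity component, read in the product. -/
theorem exists_compX_of_compT {T : Over S} (t : T ⟶ ptS s) (x : T ⟶ X) {A : Over S} (v : A ⟶ compT (G := G) t) :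
    ∃ w : A ⟶ compX (G := G) (X := X) s, w ≫ prX s = (v ≫ compTι t ≫ snd G T) ≫ lift x t ∧
      w ≫ actX a s = (v ≫ compTι t) ≫ lift (orbit a x) (snd G T ≫ t) := by
  have h : (v ≫ fstT t) ≫ compι G s ≫ snd G (ptS s) = (v ≫ sndT t ≫ lift x t) ≫ snd X (ptS s) := by
    simp only [Category.assoc, lift_snd, fstT_snd]
  obtain ⟨w, hw1, hw2⟩ := exists_compT_lift (snd X (ptS s)) (v ≫ fstT t) (v ≫ sndT t ≫ lift x t) h
  have e : w ≫ prX s = v ≫ sndT t ≫ lift x t := by rw [prX, compTι_snd, hw2]
  refine ⟨w, by rw [e, compTι_snd, Category.assoc], ?_⟩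
  apply CartesianMonoidalCategory.hom_ext
  · simp only [actX, Category.assoc, lift_fst, Basic.comp_smul, orbit, lift_snd_assoc]
    rw [compTι_fst, reassoc_of% hw1, reassoc_of% e, lift_fst, compTι_fst, reassoc_of% (compTι_snd (G := G) t)]
  · simp only [actX, Category.assoc, lift_snd]
    rw [reassoc_of% e, lift_snd, reassoc_of% (compTι_snd (G := G) t)]

/-- Conversely, points of the product over a `T`-point come from the orbit. -/
theorem exists_compT_of_compX {T : Over S} (t : T ⟶ ptS s) (x : T ⟶ X) {A : Over S} (w : A ⟶ compX (G := G) (X := X) s)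
    (π : A ⟶ T) (h : w ≫ prX s = π ≫ lift x t) :
    ∃ v : A ⟶ compT (G := G) t, (v ≫ compTι t) ≫ lift (orbit a x) (snd G T ≫ t) = w ≫ actX a s := by
  have h' := h
  rw [prX, compTι_snd] at h'
  have hα : (w ≫ fstT (snd X (ptS s))) ≫ compι G s ≫ snd G (ptS s) = π ≫ t := by
    rw [Category.assoc, fstT_snd, reassoc_of% h', lift_snd]
  obtain ⟨v, hv1, hv2⟩ := exists_compT_lift t (w ≫ fstT (snd X (ptS s))) π hα
  refine ⟨v, ?_⟩
  apply CartesianMonoidalCategory.hom_ext
  · simp only [actX, Category.assoc, lift_fst, Basic.comp_smul, orbit, lift_snd_assoc]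
    rw [compTι_fst, compTι_fst, reassoc_of% hv1, reassoc_of% (compTι_snd (G := G) t), reassoc_of% hv2,
      reassoc_of% h, lift_fst]
  · simp only [actX, Category.assoc, lift_snd]
    rw [reassoc_of% (compTι_snd (G := G) t), reassoc_of% hv2, reassoc_of% h, lift_snd]

variable [LocallyOfFiniteType G.hom] (hΦ : Surjective (lift a.act (snd G X)).left)
include hΦ

omit hΦ in
theorem flat_specMap_field (K : Type u) [Field K] {k : Type u} [Field k]
    (f : Spec (CommRingCat.of K) ⟶ Spec (CommRingCat.of k)) : Flat f := by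
  obtain ⟨φ, rfl⟩ := Spec.homEquiv.symm.surjective f
  change Flat (Spec.map φ)
  rw [HasRingHomProperty.Spec_iff (P := @Flat)]
  show φ.hom.Flat
  let := φ.hom.toAlgebra
  show Module.Flat k K
  infer_instance

/-- Over an algebraically closed point: if the orbit meets an open, it does so at a maximal point of the fibre. -/
theorem exists_maximal_mem (K : Type u) [Field K] [IsAlgClosed K] (q₁ : Spec (CommRingCat.of K) ⟶ S)
    (t : Over.mk q₁ ⟶ ptS s) (x : Over.mk q₁ ⟶ X) :
    ∃ p : (compT (G := G) t).left,
      let q := (compTι t ≫ lift (orbit a x) (snd G _ ≫ t)).left p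
      (∀ z : (X ⊗ ptS s).left, z ⤳ q → z = q) ∧
      ∀ (U : (X ⊗ ptS s).left.Opens) (p' : (compT (G := G) t).left),
        (compTι t ≫ lift (orbit a x) (snd G _ ≫ t)).left p' ∈ U → q ∈ U := by
  let T : Over S := Over.mk q₁
  obtain ⟨p₀, hp₀, hmax⟩ := exists_component_orbit_maximal a hΦ K q₁ x
  obtain ⟨p, rfl⟩ := connectedComponent_subset_range_compTι t _ hp₀
  have : IrreducibleSpace (compT (G := G) t).left := irreducible_compT t K (Iso.refl _)
  let k : X ⊗ T ⟶ X ⊗ ptS s := X ◁ t
  have : Flat t.left := flat_specMap_field K (k := S.residueField s) t.left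
  have hk : Flat k.left := Basic.whiskerLeft_mem @Flat t X this
  let g := compTι t ≫ lift (orbit a x) (snd G T ≫ t)
  have hg : g = (compTι t ≫ lift (orbit a x) (snd G T)) ≫ k := by
    simp only [g, k, Category.assoc]
    congr 1
    apply CartesianMonoidalCategory.hom_ext <;> simp
  have hq : ∀ z : (X ⊗ ptS s).left, z ⤳ g.left p → z = g.left p := by
    intro z hz
    rw [hg, Points.comp_apply] at hz ⊢
    obtain ⟨z', hz', rfl⟩ := Flat.generalizingMap k.left hz
    congr 1
    rw [Points.comp_apply] at hz' ⊢
    exact GrpScheme.Component.isMaxGen_iff.2 hmax _ hz'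
  refine ⟨p, hq, fun U p' hp' => ?_⟩
  have hgen : g.left (genericPoint (compT (G := G) t).left) = g.left p :=
    hq _ ((genericPoint_specializes p).map g.left.continuous)
  show g.left p ∈ U
  rw [← hgen]
  exact ((genericPoint_specializes p').map g.left.continuous).mem_open U.isOpen hp'

/-- In a transitive action with connected quasi-separated fibre every orbit of the identity component meets every
nonempty quasi-compact open of the fibre. -/
theorem exists_orbit_mem (hqs : QuasiSeparatedSpace ↥(X.hom.base ⁻¹' {s}))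
    (hconn : _root_.IsPreconnected (X.hom.base ⁻¹' {s})) (V : X.left.Opens)
    (hVc : IsCompact ((V : Set X.left) ∩ X.hom.base ⁻¹' {s}))
    (hVne : ((V : Set X.left) ∩ X.hom.base ⁻¹' {s}).Nonempty)
    (K : Type u) [Field K] [IsAlgClosed K] (q₁ : Spec (CommRingCat.of K) ⟶ S) (t : Over.mk q₁ ⟶ ptS s)
    (x : Over.mk q₁ ⟶ X) : ∃ p : (compT (G := G) t).left, (orbit a x).left ((compTι t).left p) ∈ V := by
  let F := (X ⊗ ptS s).left
  let Vs : F.Opens := (fst X (ptS s)).left ⁻¹ᵁ V
  have hemb : Topology.IsEmbedding (fst X (ptS s)).left := (X.hom.fiberι s).isEmbedding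
  have hrange : Set.range (fst X (ptS s)).left = X.hom.base ⁻¹' {s} := Scheme.Hom.range_fiberι X.hom s
  let eF : F ≃ₜ ↥(X.hom.base ⁻¹' {s}) := X.hom.fiberHomeo s
  have hFconn : PreconnectedSpace F := by
    have := Subtype.preconnectedSpace hconn
    exact ⟨by rw [← eF.symm.surjective.range_eq]; exact isPreconnected_range eF.symm.continuous⟩
  have hFqs : QuasiSeparatedSpace F := .of_isOpenEmbedding eF.isOpenEmbedding
  have hVsc : IsCompact (Vs : Set F) := by
    rw [hemb.isCompact_iff, show (fst X (ptS s)).left '' (Vs : Set F) = (V : Set X.left) ∩ X.hom.base ⁻¹' {s} from by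
      rw [← hrange]
      ext v
      exact ⟨fun ⟨w, hw, e⟩ => ⟨e ▸ hw, ⟨w, e⟩⟩, fun ⟨hv, w, e⟩ => ⟨w, show _ ∈ V from e ▸ hv, e⟩⟩]
    exact hVc
  have hVsqc : QuasiCompact Vs.ι := by
    refine ⟨fun U hUo hU => ?_⟩
    rw [Vs.ι.isOpenEmbedding.isEmbedding.isCompact_iff, Set.image_preimage_eq_inter_range, Scheme.Opens.range_ι]
    exact QuasiSeparatedSpace.inter_isCompact U Vs hUo hU Vs.isOpen hVsc
  let YV : (compX (G := G) (X := X) s).left.Opens := (actX a s).left ⁻¹ᵁ Vs
  have : QuasiCompact YV.ι := MorphismProperty.of_isPullback (isPullback_morphismRestrict (actX a s).left Vs) hVsqc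
  have hcs : CompactSpace (compFib G s).left := by
    have h := IdComponent.isCompact_component (fibGrp G s)
    rw [← IdComponent.range_zι] at h
    rw [← Set.image_univ, ← (IdComponent.zι (fibGrp G s)).left.isClosedEmbedding.isEmbedding.isCompact_iff] at h
    exact ⟨h⟩
  have hqcC : QuasiCompact (compFib G s).hom := (HasAffineProperty.iff_of_isAffine (P := @QuasiCompact)).2 hcs
  have hqcp : QuasiCompact (prX (G := G) (X := X) s).left := by
    rw [prX_left]; exact MorphismProperty.pullback_snd _ _ hqcC
  have hflat : Flat (prX (G := G) (X := X) s).left := by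
    rw [prX_left]
    exact MorphismProperty.pullback_snd _ _ (inferInstance : Flat (compFib G s).hom)
  have hopen : UniversallyOpen (prX (G := G) (X := X) s).left := by
    rw [prX_left]
    exact MorphismProperty.pullback_snd _ _ (inferInstance : UniversallyOpen (compFib G s).hom)
  let φ := YV.ι ≫ (prX (G := G) (X := X) s).left
  have hφo : IsOpen (Set.range φ) := by
    have e : Set.range φ = (prX (G := G) (X := X) s).left '' (YV : Set _) := by
      rw [← Scheme.Opens.range_ι YV, ← Set.range_comp]
      rfl
    rw [e]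
    exact (prX (G := G) (X := X) s).left.isOpenMap _ YV.isOpen
  -- the orbit of the point `x` meets `V` iff `x` lies in `range φ`
  have key : ∀ (K : Type u) [Field K] [IsAlgClosed K] (q₁ : Spec (CommRingCat.of K) ⟶ S)
      (t : Over.mk q₁ ⟶ ptS s) (x : Over.mk q₁ ⟶ X) (z : F), (∀ c, (lift x t).left c = z) → z ∈ Set.range φ →
      ∃ p : (compT (G := G) t).left, (compTι t ≫ lift (orbit a x) (snd G _ ≫ t)).left p ∈ Vs := by
    rintro K _ _ q₁ t x _ hc ⟨y, rfl⟩
    let yA : (compX (G := G) (X := X) s).left := y.1
    obtain ⟨d, hd1, hd2⟩ := Scheme.Pullback.exists_preimage_pullback (f := (prX (G := G) (X := X) s).left) (g := (lift x t).left)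
      yA (IsLocalRing.closedPoint K) (hc (IsLocalRing.closedPoint K)).symm
    let B : Over S := Over.mk (pullback.snd (prX (G := G) (X := X) s).left (lift x t).left ≫ (Over.mk q₁).hom)
    let π' : B ⟶ Over.mk q₁ := Over.homMk (pullback.snd _ _) rfl
    let w : B ⟶ compX (G := G) (X := X) s := Over.homMk (pullback.fst _ _) (by
      change pullback.fst _ _ ≫ _ = pullback.snd _ _ ≫ (Over.mk q₁).hom
      rw [← Over.w (prX (G := G) (X := X) s), pullback.condition_assoc, Over.w (lift x t)])
    obtain ⟨v, hv⟩ := exists_compT_of_compX a s t x w π' (Over.OverMorphism.ext pullback.condition)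
    let dB : B.left := d
    refine ⟨v.left dB, ?_⟩
    rw [← Points.comp_apply, ← Category.assoc, hv, Points.comp_apply, show w.left dB = yA from hd1]
    exact y.2
  have key' : ∀ {K : Type u} [Field K] (q₁ : Spec (CommRingCat.of K) ⟶ S) (t : Over.mk q₁ ⟶ ptS s) (x : Over.mk q₁ ⟶ X)
      (p : (compT (G := G) t).left), (compTι t ≫ lift (orbit a x) (snd G _ ≫ t)).left p ∈ Vs →
      ∃ c, (lift x t).left c ∈ Set.range φ ∧ ∃ y : (compX (G := G) (X := X) s).left,
        (prX s).left y = (lift x t).left c ∧ (actX a s).left y = (compTι t ≫ lift (orbit a x) (snd G _ ≫ t)).left p := by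
    intro K _ q₁ t x p hp
    obtain ⟨w, hw1, hw2⟩ := exists_compX_of_compT a s t x (pointHom (compT (G := G) t) p)
    obtain ⟨c₀⟩ := (inferInstance : Nonempty (pointObj (compT (G := G) t) p).left)
    have hy : (actX a s).left (w.left c₀) = (compTι t ≫ lift (orbit a x) (snd G _ ≫ t)).left p := by
      rw [← Points.comp_apply, hw2, Category.assoc, Points.comp_apply, pointHom_apply]
    refine ⟨(pointHom (compT (G := G) t) p ≫ compTι t ≫ snd G _).left c₀,
      ⟨⟨w.left c₀, show (actX a s).left (w.left c₀) ∈ Vs by rw [hy]; exact hp⟩, ?_⟩, w.left c₀, ?_, hy⟩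
    · show (prX (G := G) (X := X) s).left (w.left c₀) = _
      rw [← Points.comp_apply, hw1, Points.comp_apply]
    · rw [← Points.comp_apply, hw1, Points.comp_apply]
  -- an algebraically closed point over every point of the fibre
  have hpt : ∀ z : F, ∃ (L : Type u) (_ : Field L) (_ : IsAlgClosed L) (q : Spec (CommRingCat.of L) ⟶ S)
      (t' : Over.mk q ⟶ ptS s) (x' : Over.mk q ⟶ X), ∀ c, (lift x' t').left c = z := by
    intro z
    let L := AlgebraicClosure (F.residueField z)
    let m : Spec (CommRingCat.of L) ⟶ F := Spec.map (CommRingCat.ofHom (algebraMap (F.residueField z) L)) ≫ F.fromSpecResidueField z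
    let M : Over.mk (m ≫ (X ⊗ ptS s).hom) ⟶ X ⊗ ptS s := Over.homMk m rfl
    refine ⟨L, inferInstance, inferInstance, m ≫ (X ⊗ ptS s).hom, M ≫ snd X _, M ≫ fst X _, fun c => ?_⟩
    rw [show lift (M ≫ fst X _) (M ≫ snd X _) = M by rw [← comp_lift, lift_fst_snd, Category.comp_id]]
    exact (Scheme.Hom.comp_apply _ _ c).trans (Scheme.fromSpecResidueField_apply z _)
  have hspec : StableUnderSpecialization (Set.range φ) := by
    rintro z z' hzz' hz
    obtain ⟨L', _, _, q', t', x', hx'⟩ := hpt z'
    obtain ⟨p', hmax', -⟩ := exists_maximal_mem a s hΦ L' q' t' x'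
    obtain ⟨c₀⟩ := (inferInstance : Nonempty (pointObj (compT (G := G) t') p').left)
    obtain ⟨w', hw1, hw2⟩ := exists_compX_of_compT a s t' x' (pointHom (compT (G := G) t') p')
    have hy' : (prX (G := G) (X := X) s).left (w'.left c₀) = z' := by
      rw [← Points.comp_apply, hw1, Points.comp_apply]; exact hx' _
    obtain ⟨y'', hy'', hyz⟩ := Flat.generalizingMap (prX (G := G) (X := X) s).left (hy'.symm ▸ hzz' : z ⤳ (prX (G := G) (X := X) s).left (w'.left c₀))
    have hq : (actX a s).left y'' = (compTι t' ≫ lift (orbit a x') (snd G _ ≫ t')).left p' := by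
      refine hmax' _ ?_
      have := hy''.map (actX a s).left.continuous
      rwa [← Points.comp_apply, hw2, Category.assoc, Points.comp_apply, pointHom_apply] at this
    obtain ⟨L, _, _, q, t₁, x₁, hx₁⟩ := hpt z
    obtain ⟨p₁, hp₁⟩ := key L q t₁ x₁ z hx₁ hz
    obtain ⟨pm, hmax, hmem⟩ := exists_maximal_mem a s hΦ L q t₁ x₁
    have hqV : (compTι t₁ ≫ lift (orbit a x₁) (snd G _ ≫ t₁)).left pm ∈ Vs := hmem Vs p₁ hp₁
    -- the two maximal points agree
    obtain ⟨d, hd1, hd2⟩ := Scheme.Pullback.exists_preimage_pullback (f := (prX (G := G) (X := X) s).left) (g := (lift x₁ t₁).left)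
      y'' (IsLocalRing.closedPoint L) (hyz.trans (hx₁ _).symm)
    let B : Over S := Over.mk (pullback.snd (prX (G := G) (X := X) s).left (lift x₁ t₁).left ≫ (Over.mk q).hom)
    let π' : B ⟶ Over.mk q := Over.homMk (pullback.snd _ _) rfl
    let w : B ⟶ compX (G := G) (X := X) s := Over.homMk (pullback.fst _ _) (by
      change pullback.fst _ _ ≫ _ = pullback.snd _ _ ≫ (Over.mk q).hom
      rw [← Over.w (prX (G := G) (X := X) s), pullback.condition_assoc, Over.w (lift x₁ t₁)])
    obtain ⟨v, hv⟩ := exists_compT_of_compX a s t₁ x₁ w π' (Over.OverMorphism.ext pullback.condition)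
    have hq₁ : (compTι t₁ ≫ lift (orbit a x₁) (snd G _ ≫ t₁)).left pm ⤳ (actX a s).left y'' := by
      refine specializes_iff_forall_open.2 fun U hU hyU => ?_
      refine hmem ⟨U, hU⟩ (v.left d) ?_
      rw [← Points.comp_apply, ← Category.assoc, hv, Points.comp_apply, show w.left d = y'' from hd1]
      exact hyU
    have heq := hmax' _ (hq ▸ hq₁)
    refine ⟨⟨w'.left c₀, show (actX a s).left (w'.left c₀) ∈ Vs by
      rw [← Points.comp_apply, hw2, Category.assoc, Points.comp_apply, pointHom_apply, ← heq]
      exact hqV⟩, ?_⟩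
    exact hy'
  have hclosed : IsClosed (Set.range φ) := closure_subset_iff_isClosed.1 fun z hz => by
    obtain ⟨z₀, hs⟩ := SchPoints.exists_specializes_of_mem_closure_range φ hz
    exact hspec hs ⟨z₀, rfl⟩
  have hne : (Set.range φ).Nonempty := by
    obtain ⟨v, hvV, hvs⟩ := hVne
    obtain ⟨z, rfl⟩ := hrange.ge hvs
    obtain ⟨L', _, _, q', t', x', hx'⟩ := hpt z
    obtain ⟨u, hu⟩ := exists_unit G s
    have h : (t' ≫ u) ≫ compι G s ≫ snd G (ptS s) = 𝟙 _ ≫ t' := by
      rw [Category.assoc, ← Category.assoc u, hu, lift_snd]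
      simp
    obtain ⟨v', hv'1, hv'2⟩ := exists_compT_lift t' (t' ≫ u) (𝟙 _) h
    have hv' : v' ≫ compTι t' = lift ((t' ≫ u) ≫ compι G s ≫ fst G (ptS s)) (𝟙 (Over.mk q')) := by
      rw [compTι, comp_lift, reassoc_of% hv'1, hv'2]
      simp
    have hp : (compTι t' ≫ lift (orbit a x') (snd G _ ≫ t')).left (v'.left (IsLocalRing.closedPoint L')) ∈ Vs := by
      rw [← Points.comp_apply, ← Category.assoc, hv']
      have e : lift ((t' ≫ u) ≫ compι G s ≫ fst G (ptS s)) (𝟙 (Over.mk q')) ≫
          lift (orbit a x') (snd G _ ≫ t') = lift x' t' := by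
        apply CartesianMonoidalCategory.hom_ext
        · rw [Category.assoc, lift_fst, lift_fst, comp_orbit, Category.assoc t' u, ← Category.assoc u, hu, lift_fst,
            MonObj.comp_one, Basic.one_smul', Category.id_comp]
        · simp
      rw [e, hx']
      exact hvV
    obtain ⟨c, hc, -⟩ := key' q' t' x' _ hp
    exact ⟨_, hc⟩
  have huniv : Set.range φ = Set.univ := IsClopen.eq_univ ⟨hclosed, hφo⟩ hne
  let z := (lift x t).left (IsLocalRing.closedPoint K)
  obtain ⟨p, hp⟩ := key K q₁ t x z (fun c => congrArg _ (Subsingleton.elim (α := PrimeSpectrum K) c _)) (huniv ▸ Set.mem_univ z)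
  refine ⟨p, ?_⟩
  change (fst X (ptS s)).left _ ∈ V at hp
  rwa [← Points.comp_apply, Category.assoc, lift_fst, Points.comp_apply] at hp

end meets

end Groth.Agent.SepAction
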