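import Groth.Agent.GrpScheme.Basic
import Groth.Agent.GrpScheme.Points
import Mathlib.AlgebraicGeometry.Morphisms.UniversallyOpen
import Mathlib.AlgebraicGeometry.Morphisms.ClosedImmersion
import Mathlib.AlgebraicGeometry.Morphisms.Separated

/-! Separatedness of a scheme with a group action moving pairs of points into separated opens. -/

set_option autoImplicit false

universe u

open CategoryTheory MonoidalCategory CartesianMonoidalCategory MonObj GrpObj AlgebraicGeometry Limits

namespace Groth.Agent.SepAction

set_option backward.isDefEq.respectTransparency.types false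

open GrpScheme GrpScheme.Points

variable {S : Scheme.{u}}

/-- The diagonal, in `Over S`. -/
noncomputable abbrev diag (X : Over S) : X ⟶ X ⊗ X := lift (𝟙 X) (𝟙 X)

/-- A point with value in a field lies on the diagonal iff its two components agree. -/
theorem mem_range_diag_iff {X T : Over S} (L : Type u) [Field L] (e : T.left ≅ Spec (CommRingCat.of L))
    (x y : T ⟶ X) (t : T.left) :
    (lift x y).left t ∈ Set.range (diag X).left ↔ x = y := by
  constructor
  · rintro ⟨w, hw⟩
    have : IsImmersion (diag X).left := inferInstanceAs (IsImmersion (pullback.diagonal X.hom))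
    let q := (lift x y).left
    let p := pullback.snd (diag X).left q
    obtain ⟨z, -, hz⟩ := Scheme.Pullback.exists_preimage_pullback (f := (diag X).left) (g := q) w t hw
    have : Subsingleton T.left := by
      have : Subsingleton (Spec (CommRingCat.of L)) := inferInstanceAs (Subsingleton (PrimeSpectrum L))
      exact e.hom.homeomorph.injective.subsingleton
    have hsurj : Surjective p := ⟨fun s => ⟨z, Subsingleton.elim _ _⟩⟩
    have : IsReduced T.left := isReduced_of_isOpenImmersion e.hom
    have : IsClosedImmersion p :=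
      IsClosedImmersion.of_isPreimmersion p (by rw [Set.range_eq_univ.2 hsurj.surj]; exact isClosed_univ)
    have : IsIso p := isIso_of_isClosedImmersion_of_surjective p
    have h : q = (inv p ≫ pullback.fst (diag X).left q) ≫ (diag X).left := by
      rw [Category.assoc, IsIso.eq_inv_comp]
      exact pullback.condition.symm
    have h1 : x.left = q ≫ (fst X X).left := by
      rw [← Over.comp_left, lift_fst]
    have h2 : y.left = q ≫ (snd X X).left := by
      rw [← Over.comp_left, lift_snd]
    refine Over.OverMorphism.ext ?_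
    rw [h1, h2, h, Category.assoc _ (diag X).left, Category.assoc _ (diag X).left, ← Over.comp_left,
      ← Over.comp_left, lift_fst, lift_snd]
  · rintro rfl
    refine ⟨x.left t, ?_⟩
    rw [← Points.comp_apply, comp_lift, Category.comp_id]

/-- The points of `X ⊗ X` whose two components lie in a common separated open of `X`, off the diagonal. -/
theorem isOpen_offDiag {X : Over S} :
    IsOpen {q : (X ⊗ X).left | q ∉ Set.range (diag X).left ∧
      ∃ V : X.left.Opens, IsSeparated (V.ι ≫ X.hom) ∧ (fst X X).left q ∈ V ∧ (snd X X).left q ∈ V} := by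
  rw [isOpen_iff_forall_mem_open]
  rintro q ⟨hq, V, hV, h1, h2⟩
  let W : Set (X ⊗ X).left :=
    ((fst X X).left ⁻¹' (V : Set X.left)) ∩ ((snd X X).left ⁻¹' (V : Set X.left))
  have hW : IsOpen W :=
    (V.isOpen.preimage (fst X X).left.continuous).inter (V.isOpen.preimage (snd X X).left.continuous)
  let j : pullback (V.ι ≫ X.hom) (V.ι ≫ X.hom) ⟶ (X ⊗ X).left :=
    pullback.map (V.ι ≫ X.hom) (V.ι ≫ X.hom) X.hom X.hom V.ι V.ι (𝟙 S) (by simp) (by simp)
  have hjo : IsOpenImmersion j := inferInstance
  have hjr : Set.range j = W := by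
    ext w
    constructor
    · rintro ⟨v, rfl⟩
      constructor
      · show (fst X X).left (j v) ∈ V
        rw [← Scheme.Hom.comp_apply, show j ≫ (fst X X).left = pullback.fst _ _ ≫ V.ι from pullback.lift_fst _ _ _]
        exact (pullback.fst (V.ι ≫ X.hom) (V.ι ≫ X.hom) v).2
      · show (snd X X).left (j v) ∈ V
        rw [← Scheme.Hom.comp_apply, show j ≫ (snd X X).left = pullback.snd _ _ ≫ V.ι from pullback.lift_snd _ _ _]
        exact (pullback.snd (V.ι ≫ X.hom) (V.ι ≫ X.hom) v).2
    · rintro ⟨ha, hb⟩
      exact (Scheme.Pullback.range_map (f := V.ι ≫ X.hom) (g := V.ι ≫ X.hom) X.hom X.hom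
        V.ι V.ι (𝟙 S) (by simp) (by simp)).ge ⟨by simpa using! ha, by simpa using! hb⟩
  refine ⟨W \ Set.range (diag X).left, fun w ⟨hw, hwd⟩ => ⟨hwd, V, hV, hw.1, hw.2⟩, ?_, ⟨h1, h2⟩, hq⟩
  have hd : IsClosed (Set.range (pullback.diagonal (V.ι ≫ X.hom))) :=
    (pullback.diagonal (V.ι ≫ X.hom)).isClosedEmbedding.isClosed_range
  have e : W \ Set.range (diag X).left = j '' (Set.range (pullback.diagonal (V.ι ≫ X.hom)))ᶜ := by
    have hcomm : pullback.diagonal (V.ι ≫ X.hom) ≫ j = V.ι ≫ (diag X).left := by
      change _ = V.ι ≫ pullback.diagonal X.hom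
      refine pullback.hom_ext ?_ ?_
      · refine (Category.assoc _ _ _).trans ?_
        erw [pullback.lift_fst]
        rw [pullback.diagonal, pullback.lift_fst_assoc, Category.id_comp, Category.assoc]
        erw [pullback.lift_fst]
        rw [Category.comp_id]
      · refine (Category.assoc _ _ _).trans ?_
        erw [pullback.lift_snd]
        rw [pullback.diagonal, pullback.lift_snd_assoc, Category.id_comp, Category.assoc]
        erw [pullback.lift_snd]
        rw [Category.comp_id]
    ext w
    constructor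
    · rintro ⟨hw, hwd⟩
      obtain ⟨v, rfl⟩ := hjr.ge hw
      refine ⟨v, fun ⟨a, ha⟩ => hwd ⟨V.ι a, ?_⟩, rfl⟩
      rw [← ha, ← Scheme.Hom.comp_apply, ← Scheme.Hom.comp_apply, hcomm]
    · rintro ⟨v, hv, rfl⟩
      refine ⟨hjr.le ⟨v, rfl⟩, fun ⟨a, ha⟩ => hv ?_⟩
      have haV : a ∈ V := by
        have := (hjr.le ⟨v, rfl⟩).1
        rw [← ha] at this
        change (fst X X).left ((diag X).left a) ∈ V at this
        rw [← Points.comp_apply, lift_fst] at this
        exact this
      refine ⟨⟨a, haV⟩, j.isOpenEmbedding.injective ?_⟩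
      rw [← Scheme.Hom.comp_apply, hcomm, Scheme.Hom.comp_apply]
      exact ha
  rw [e]
  exact j.isOpenEmbedding.isOpenMap _ hd.isOpen_compl

/-- The criterion: every pair of points over a field can be moved, by a point of the universally open part,
into a common separated open. -/
theorem isSeparated_of_translate {G X : Over S} [GrpObj G] (a : AlgGrp.Action G X) (W0 : G.left.Opens)
    [UniversallyOpen (W0.ι ≫ G.hom)]
    (h : ∀ (T₀ : Over S) (L : Type u) [Field L] (_ : T₀.left ≅ Spec (CommRingCat.of L)) (x y : T₀ ⟶ X),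
      ∃ (V : X.left.Opens) (_ : IsSeparated (V.ι ≫ X.hom)) (T : Over S) (_ : Nonempty T.left) (π : T ⟶ T₀)
        (g : T ⟶ G), ∀ t : T.left, g.left t ∈ W0 ∧ (Basic.smul a g (π ≫ x)).left t ∈ V ∧
          (Basic.smul a g (π ≫ y)).left t ∈ V) :
    IsSeparated X.hom := by
  have hclosed : IsClosed (Set.range (diag X).left) := by
    let G' : Over S := Over.mk (W0.ι ≫ G.hom)
    let i : G' ⟶ G := Over.homMk W0.ι rfl
    let P := G' ⊗ (X ⊗ X)
    let g₀ : P ⟶ G := fst G' (X ⊗ X) ≫ i
    let x₀ : P ⟶ X := snd G' (X ⊗ X) ≫ fst X X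
    let y₀ : P ⟶ X := snd G' (X ⊗ X) ≫ snd X X
    let θ : P ⟶ X ⊗ X := lift (Basic.smul a g₀ x₀) (Basic.smul a g₀ y₀)
    have heq : ∀ t, θ.left t ∈ Set.range (diag X).left ↔
        (snd G' (X ⊗ X)).left t ∈ Set.range (diag X).left := by
      intro t
      let p := pointHom P t
      obtain ⟨t₀⟩ := (inferInstance : Nonempty (pointObj P t).left)
      rw [← pointHom_apply P t t₀, ← Points.comp_apply, ← Points.comp_apply,
        show snd G' (X ⊗ X) = lift x₀ y₀ by simp only [x₀, y₀, ← comp_lift, lift_fst_snd, Category.comp_id],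
        comp_lift, comp_lift, mem_range_diag_iff _ (Iso.refl _), mem_range_diag_iff _ (Iso.refl _),
        Basic.comp_smul, Basic.comp_smul]
      refine ⟨fun e => ?_, fun e => by rw [e]⟩
      have := congrArg (Basic.smul a (pointHom P t ≫ g₀)⁻¹) e
      rwa [Basic.inv_smul_smul', Basic.inv_smul_smul'] at this
    rw [← isOpen_compl_iff]
    let E : Set P.left := θ.left ⁻¹' {q : (X ⊗ X).left | q ∉ Set.range (diag X).left ∧
      ∃ V : X.left.Opens, IsSeparated (V.ι ≫ X.hom) ∧ (fst X X).left q ∈ V ∧ (snd X X).left q ∈ V}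
    have hE : IsOpen E := isOpen_offDiag.preimage θ.left.continuous
    have hG' : UniversallyOpen G'.hom := ‹UniversallyOpen (W0.ι ≫ G.hom)›
    have : UniversallyOpen (snd G' (X ⊗ X)).left := Basic.snd_left_mem @UniversallyOpen hG'
    suffices e : (Set.range (diag X).left)ᶜ = (snd G' (X ⊗ X)).left '' E by
      rw [e]; exact (snd G' (X ⊗ X)).left.isOpenMap _ hE
    ext z
    constructor
    · intro hz
      let q := pointHom (X ⊗ X) z
      obtain ⟨V, hV, T, hT, π, g, hg⟩ := h (pointObj (X ⊗ X) z) ((X ⊗ X).left.residueField z) (Iso.refl _)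
        (q ≫ fst X X) (q ≫ snd X X)
      obtain ⟨t⟩ := hT
      let g' : T ⟶ G' := Over.homMk (IsOpenImmersion.lift W0.ι g.left
        (by rintro _ ⟨s, rfl⟩; rw [Scheme.Opens.range_ι]; exact (hg s).1))
        (by
          change IsOpenImmersion.lift W0.ι g.left _ ≫ W0.ι ≫ G.hom = T.hom
          rw [IsOpenImmersion.lift_fac_assoc]
          exact Over.w g)
      have hg' : g' ≫ i = g := Over.OverMorphism.ext (IsOpenImmersion.lift_fac _ _ _)
      let k : T ⟶ P := lift g' (π ≫ q)
      have hk : k ≫ θ = lift (Basic.smul a g (π ≫ q ≫ fst X X)) (Basic.smul a g (π ≫ q ≫ snd X X)) := by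
        simp only [θ, comp_lift, Basic.comp_smul, g₀, x₀, y₀, k, lift_fst_assoc, lift_snd_assoc, hg',
          Category.assoc]
      have hsz : (snd G' (X ⊗ X)).left (k.left t) = z := by
        rw [← Points.comp_apply, lift_snd, Points.comp_apply]
        exact pointHom_apply _ _ _
      refine ⟨k.left t, ⟨fun hd => hz ?_, V, hV, ?_, ?_⟩, hsz⟩
      · rw [← hsz]; exact (heq _).1 hd
      · rw [← Points.comp_apply, ← Points.comp_apply, ← Category.assoc, hk, lift_fst]
        exact (hg t).2.1
      · rw [← Points.comp_apply, ← Points.comp_apply, ← Category.assoc, hk, lift_snd]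
        exact (hg t).2.2
    · rintro ⟨t, ⟨hd, -⟩, rfl⟩
      exact fun hc => hd ((heq t).2 hc)
  have : IsImmersion (pullback.diagonal X.hom) := inferInstance
  exact ⟨IsClosedImmersion.of_isPreimmersion (pullback.diagonal X.hom) hclosed⟩

end Groth.Agent.SepAction
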